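import Cfsg.Agent.Lib.Fusion.Ess
import Cfsg.Agent.Lib.RV.He

/-!
# S5227: the Sylow 3-subgroup `U` of `Sp₆(3)` (and of `Co₁`) in coordinates (design: docs/CF.md)

`U = A ⋊ T`, `A` = symmetric `3 × 3` matrices `[[a,b,c],[b,d,e],[c,e,f]]` (`= S²V`, `a = v₁²`, `b = v₁v₂`, `c = v₁v₃`,
`d = v₂²`, `e = v₂v₃`, `f = v₃²`), `T` = unitriangular matrices `[[1,x,z],[0,1,y],[0,0,1]]`, `(A,τ)(B,σ) = (A + τBτᵀ, τσ)`.
-/

set_option autoImplicit false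

namespace Cfsg.Lib.CF

open Subgroup Cfsg.FusionSystem Cfsg.Lib.Fusion Matrix

/-- The field. -/
abbrev K3 : Type := ZMod 3

instance instFact3 : Fact (Nat.Prime 3) := Nat.fact_prime_three

/-- The Heisenberg group `T`. -/
@[ext] structure T3 where
  /-- coordinate -/
  x : K3
  /-- coordinate -/
  y : K3
  /-- coordinate -/
  z : K3
  deriving DecidableEq, Fintype

namespace T3
variable (g h : T3)
instance instMul : Mul T3 := ⟨fun g h => ⟨g.x + h.x, g.y + h.y, g.z + h.z + g.x * h.y⟩⟩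
instance instOne : One T3 := ⟨⟨0, 0, 0⟩⟩
instance instInv : Inv T3 := ⟨fun g => ⟨-g.x, -g.y, -g.z + g.x * g.y⟩⟩
@[simp] theorem mul_x : (g * h).x = g.x + h.x := rfl
@[simp] theorem mul_y : (g * h).y = g.y + h.y := rfl
@[simp] theorem mul_z : (g * h).z = g.z + h.z + g.x * h.y := rfl
@[simp] theorem one_x : (1 : T3).x = 0 := rfl
@[simp] theorem one_y : (1 : T3).y = 0 := rfl
@[simp] theorem one_z : (1 : T3).z = 0 := rfl
@[simp] theorem inv_x : g⁻¹.x = -g.x := rfl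
@[simp] theorem inv_y : g⁻¹.y = -g.y := rfl
@[simp] theorem inv_z : g⁻¹.z = -g.z + g.x * g.y := rfl
instance instGroup : Group T3 := Group.ofLeftAxioms
  (fun a b c => by ext <;> simp <;> ring) (fun a => by ext <;> simp) (fun a => by ext <;> simp)
end T3

/-- The group `U`. -/
@[ext] structure U where
  /-- coordinate -/
  a : K3
  /-- coordinate -/
  b : K3
  /-- coordinate -/
  c : K3
  /-- coordinate -/
  d : K3
  /-- coordinate -/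
  e : K3
  /-- coordinate -/
  f : K3
  /-- coordinate -/
  x : K3
  /-- coordinate -/
  y : K3
  /-- coordinate -/
  z : K3
  deriving DecidableEq

namespace U
/-- Coordinates. -/
def eqv : U ≃ T3 × T3 × T3 where
  toFun g := (⟨g.a, g.b, g.c⟩, ⟨g.d, g.e, g.f⟩, ⟨g.x, g.y, g.z⟩)
  invFun t := ⟨t.1.x, t.1.y, t.1.z, t.2.1.x, t.2.1.y, t.2.1.z, t.2.2.x, t.2.2.y, t.2.2.z⟩
  left_inv _ := rfl
  right_inv _ := rfl
instance instFintype : Fintype U := Fintype.ofEquiv _ eqv.symm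
variable (g h : U)
instance instMul : Mul U := ⟨fun g h => ⟨g.a + h.a + 2 * g.x * h.b + 2 * g.z * h.c + g.x ^ 2 * h.d + 2 * g.x * g.z * h.e + g.z ^ 2 * h.f,
  g.b + h.b + g.y * h.c + g.x * h.d + (g.z + g.x * g.y) * h.e + g.y * g.z * h.f,
  g.c + h.c + g.x * h.e + g.z * h.f,
  g.d + h.d + 2 * g.y * h.e + g.y ^ 2 * h.f,
  g.e + h.e + g.y * h.f,
  g.f + h.f,
  g.x + h.x,
  g.y + h.y,
  g.z + h.z + g.x * h.y⟩⟩
instance instOne : One U := ⟨⟨0, 0, 0, 0, 0, 0, 0, 0, 0⟩⟩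
instance instInv : Inv U := ⟨fun g => ⟨-g.a + 2 * g.x * g.b + 2 * (g.z - g.x * g.y) * g.c - g.x ^ 2 * g.d - 2 * g.x * (g.z - g.x * g.y) * g.e - (g.z - g.x * g.y) ^ 2 * g.f,
  -g.b + g.y * g.c + g.x * g.d + (g.z - 2 * g.x * g.y) * g.e - g.y * (g.z - g.x * g.y) * g.f,
  -g.c + g.x * g.e + (g.z - g.x * g.y) * g.f,
  -g.d + 2 * g.y * g.e - g.y ^ 2 * g.f,
  -g.e + g.y * g.f,
  -g.f,
  -g.x,
  -g.y,
  -g.z + g.x * g.y⟩⟩
@[simp] theorem mul_a : (g * h).a = g.a + h.a + 2 * g.x * h.b + 2 * g.z * h.c + g.x ^ 2 * h.d + 2 * g.x * g.z * h.e + g.z ^ 2 * h.f := rfl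
@[simp] theorem mul_b : (g * h).b = g.b + h.b + g.y * h.c + g.x * h.d + (g.z + g.x * g.y) * h.e + g.y * g.z * h.f := rfl
@[simp] theorem mul_c : (g * h).c = g.c + h.c + g.x * h.e + g.z * h.f := rfl
@[simp] theorem mul_d : (g * h).d = g.d + h.d + 2 * g.y * h.e + g.y ^ 2 * h.f := rfl
@[simp] theorem mul_e : (g * h).e = g.e + h.e + g.y * h.f := rfl
@[simp] theorem mul_f : (g * h).f = g.f + h.f := rfl
@[simp] theorem mul_x : (g * h).x = g.x + h.x := rfl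
@[simp] theorem mul_y : (g * h).y = g.y + h.y := rfl
@[simp] theorem mul_z : (g * h).z = g.z + h.z + g.x * h.y := rfl
@[simp] theorem one_a : (1 : U).a = 0 := rfl
@[simp] theorem one_b : (1 : U).b = 0 := rfl
@[simp] theorem one_c : (1 : U).c = 0 := rfl
@[simp] theorem one_d : (1 : U).d = 0 := rfl
@[simp] theorem one_e : (1 : U).e = 0 := rfl
@[simp] theorem one_f : (1 : U).f = 0 := rfl
@[simp] theorem one_x : (1 : U).x = 0 := rfl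
@[simp] theorem one_y : (1 : U).y = 0 := rfl
@[simp] theorem one_z : (1 : U).z = 0 := rfl
@[simp] theorem inv_a : g⁻¹.a = -g.a + 2 * g.x * g.b + 2 * (g.z - g.x * g.y) * g.c - g.x ^ 2 * g.d - 2 * g.x * (g.z - g.x * g.y) * g.e - (g.z - g.x * g.y) ^ 2 * g.f := rfl
@[simp] theorem inv_b : g⁻¹.b = -g.b + g.y * g.c + g.x * g.d + (g.z - 2 * g.x * g.y) * g.e - g.y * (g.z - g.x * g.y) * g.f := rfl
@[simp] theorem inv_c : g⁻¹.c = -g.c + g.x * g.e + (g.z - g.x * g.y) * g.f := rfl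
@[simp] theorem inv_d : g⁻¹.d = -g.d + 2 * g.y * g.e - g.y ^ 2 * g.f := rfl
@[simp] theorem inv_e : g⁻¹.e = -g.e + g.y * g.f := rfl
@[simp] theorem inv_f : g⁻¹.f = -g.f := rfl
@[simp] theorem inv_x : g⁻¹.x = -g.x := rfl
@[simp] theorem inv_y : g⁻¹.y = -g.y := rfl
@[simp] theorem inv_z : g⁻¹.z = -g.z + g.x * g.y := rfl
instance instGroup : Group U := Group.ofLeftAxioms
  (fun a b c => by ext <;> simp <;> ring) (fun a => by ext <;> simp) (fun a => by ext <;> simp <;> ring)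
end U

/-- A subgroup given by a predicate. -/
def sub {G : Type*} [Group G] [Finite G] (p : G → Prop) (h1 : p 1) (hm : ∀ g h, p g → p h → p (g * h)) :
    Subgroup G where
  carrier := {g | p g}
  one_mem' := h1
  mul_mem' := hm _ _
  inv_mem' := fun {g} hg => by
    have k : ∀ n : ℕ, p (g ^ n) := fun n => by
      induction n with
      | zero => simpa using h1
      | succ n ih => exact pow_succ g n ▸ hm _ _ ih hg
    have e : g⁻¹ = g ^ (orderOf g - 1) := by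
      rw [inv_eq_iff_mul_eq_one, ← pow_succ', Nat.sub_add_cancel (orderOf_pos g), pow_orderOf_eq_one]
    exact e ▸ k _

/-- `Z = Z(U) = ⟨v₁²⟩`. -/
def sZ : Subgroup U := sub (fun g => g.b = 0 ∧ g.c = 0 ∧ g.d = 0 ∧ g.e = 0 ∧ g.f = 0 ∧ g.x = 0 ∧ g.y = 0 ∧ g.z = 0) (by simp) (by intro g h; simp +contextual)
@[simp] theorem mem_sZ {g : U} : g ∈ sZ ↔ g.b = 0 ∧ g.c = 0 ∧ g.d = 0 ∧ g.e = 0 ∧ g.f = 0 ∧ g.x = 0 ∧ g.y = 0 ∧ g.z = 0 := Iff.rfl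
/-- `Y = Z₂(U) = v₁W`. -/
def sY : Subgroup U := sub (fun g => g.c = 0 ∧ g.d = 0 ∧ g.e = 0 ∧ g.f = 0 ∧ g.x = 0 ∧ g.y = 0 ∧ g.z = 0) (by simp) (by intro g h; simp +contextual)
@[simp] theorem mem_sY {g : U} : g ∈ sY ↔ g.c = 0 ∧ g.d = 0 ∧ g.e = 0 ∧ g.f = 0 ∧ g.x = 0 ∧ g.y = 0 ∧ g.z = 0 := Iff.rfl
/-- `C = S²W`, `W = ⟨v₁,v₂⟩`. -/
def sC : Subgroup U := sub (fun g => g.c = 0 ∧ g.e = 0 ∧ g.f = 0 ∧ g.x = 0 ∧ g.y = 0 ∧ g.z = 0) (by simp) (by intro g h; simp +contextual)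
@[simp] theorem mem_sC {g : U} : g ∈ sC ↔ g.c = 0 ∧ g.e = 0 ∧ g.f = 0 ∧ g.x = 0 ∧ g.y = 0 ∧ g.z = 0 := Iff.rfl
/-- `D = v₁V`. -/
def sD : Subgroup U := sub (fun g => g.d = 0 ∧ g.e = 0 ∧ g.f = 0 ∧ g.x = 0 ∧ g.y = 0 ∧ g.z = 0) (by simp) (by intro g h; simp +contextual)
@[simp] theorem mem_sD {g : U} : g ∈ sD ↔ g.d = 0 ∧ g.e = 0 ∧ g.f = 0 ∧ g.x = 0 ∧ g.y = 0 ∧ g.z = 0 := Iff.rfl
/-- `K = CD`. -/
def sK : Subgroup U := sub (fun g => g.e = 0 ∧ g.f = 0 ∧ g.x = 0 ∧ g.y = 0 ∧ g.z = 0) (by simp) (by intro g h; simp +contextual)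
@[simp] theorem mem_sK {g : U} : g ∈ sK ↔ g.e = 0 ∧ g.f = 0 ∧ g.x = 0 ∧ g.y = 0 ∧ g.z = 0 := Iff.rfl
/-- `B`, index 3 in `A`. -/
def sB : Subgroup U := sub (fun g => g.f = 0 ∧ g.x = 0 ∧ g.y = 0 ∧ g.z = 0) (by simp) (by intro g h; simp +contextual)
@[simp] theorem mem_sB {g : U} : g ∈ sB ↔ g.f = 0 ∧ g.x = 0 ∧ g.y = 0 ∧ g.z = 0 := Iff.rfl
/-- `A = J(U)`. -/
def sA : Subgroup U := sub (fun g => g.x = 0 ∧ g.y = 0 ∧ g.z = 0) (by simp) (by intro g h; simp +contextual)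
@[simp] theorem mem_sA {g : U} : g ∈ sA ↔ g.x = 0 ∧ g.y = 0 ∧ g.z = 0 := Iff.rfl
/-- `A⟨z⟩`. -/
def sAz : Subgroup U := sub (fun g => g.x = 0 ∧ g.y = 0) (by simp) (by intro g h; simp +contextual)
@[simp] theorem mem_sAz {g : U} : g ∈ sAz ↔ g.x = 0 ∧ g.y = 0 := Iff.rfl
/-- `R = E₁ ⊓ E₃`. -/
def sR : Subgroup U := sub (fun g => g.f = 0 ∧ g.x = 0) (by simp) (by intro g h; simp +contextual)
@[simp] theorem mem_sR {g : U} : g ∈ sR ↔ g.f = 0 ∧ g.x = 0 := Iff.rfl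
/-- `E₁`. -/
def E1 : Subgroup U := sub (fun g => g.x = 0) (by simp) (by intro g h; simp +contextual)
@[simp] theorem mem_E1 {g : U} : g ∈ E1 ↔ g.x = 0 := Iff.rfl
/-- `E₂`. -/
def E2 : Subgroup U := sub (fun g => g.y = 0) (by simp) (by intro g h; simp +contextual)
@[simp] theorem mem_E2 {g : U} : g ∈ E2 ↔ g.y = 0 := Iff.rfl
/-- `E₃`. -/
def E3 : Subgroup U := sub (fun g => g.f = 0) (by simp) (by intro g h; simp +contextual)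
@[simp] theorem mem_E3 {g : U} : g ∈ E3 ↔ g.f = 0 := Iff.rfl
/-- `E₄ = A⟨xr⟩`. -/
def E4 : Subgroup U := sub (fun g => g.y = g.x ∧ g.z = g.x - g.x ^ 2) (by simp) (by
  rintro g h ⟨h1, h2⟩ ⟨h3, h4⟩
  simp only [U.mul_x, U.mul_y, U.mul_z, h1, h2, h3, h4, true_and]
  generalize g.x = s; generalize h.x = t; revert s t; decide)
@[simp] theorem mem_E4 {g : U} : g ∈ E4 ↔ g.y = g.x ∧ g.z = g.x - g.x ^ 2 := Iff.rfl
/-- The normalizer of `E₄`. -/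
def N4 : Subgroup U := sub (fun g => g.y = g.x) (by simp) (by intro g h; simp +contextual)
@[simp] theorem mem_N4 {g : U} : g ∈ N4 ↔ g.y = g.x := Iff.rfl
/-- The other three abelian subgroups of order `3 ^ 5` of `R`. -/
def Bl (l : K3) : Subgroup U := sub (fun g => g.f = 0 ∧ g.x = 0 ∧ g.c = l * g.z ∧ g.e = l * g.y) (by simp)
  (by intro g h; simp +contextual [mul_add])
@[simp] theorem mem_Bl {l : K3} {g : U} : g ∈ Bl l ↔ g.f = 0 ∧ g.x = 0 ∧ g.c = l * g.z ∧ g.e = l * g.y := Iff.rfl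
/-- `V₁ = E₂ / A`. -/
def V1 : Subgroup T3 := sub (fun g => g.y = 0) (by simp) (by intro g h; simp +contextual)
@[simp] theorem mem_V1 {g : T3} : g ∈ V1 ↔ g.y = 0 := Iff.rfl
/-- `V₂ = E₁ / A`. -/
def V2 : Subgroup T3 := sub (fun g => g.x = 0) (by simp) (by intro g h; simp +contextual)
@[simp] theorem mem_V2 {g : T3} : g ∈ V2 ↔ g.x = 0 := Iff.rfl

/-- root element -/
abbrev aa : U := ⟨1, 0, 0, 0, 0, 0, 0, 0, 0⟩
/-- root element -/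
abbrev bb : U := ⟨0, 1, 0, 0, 0, 0, 0, 0, 0⟩
/-- root element -/
abbrev cc : U := ⟨0, 0, 1, 0, 0, 0, 0, 0, 0⟩
/-- root element -/
abbrev dd : U := ⟨0, 0, 0, 1, 0, 0, 0, 0, 0⟩
/-- root element -/
abbrev ee : U := ⟨0, 0, 0, 0, 1, 0, 0, 0, 0⟩
/-- root element -/
abbrev ff : U := ⟨0, 0, 0, 0, 0, 1, 0, 0, 0⟩
/-- root element -/
abbrev xx : U := ⟨0, 0, 0, 0, 0, 0, 1, 0, 0⟩
/-- root element -/
abbrev yy : U := ⟨0, 0, 0, 0, 0, 0, 0, 1, 0⟩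
/-- root element -/
abbrev zz : U := ⟨0, 0, 0, 0, 0, 0, 0, 0, 1⟩
/-- a regular element of `T` -/
abbrev xr : U := ⟨0, 0, 0, 0, 0, 0, 1, 1, 0⟩

/-- Projection onto `T`. -/
def π : U →* T3 := MonoidHom.mk' (fun g => ⟨g.x, g.y, g.z⟩) fun _ _ => rfl
@[simp] theorem π_x (g : U) : (π g).x = g.x := rfl
@[simp] theorem π_y (g : U) : (π g).y = g.y := rfl
@[simp] theorem π_z (g : U) : (π g).z = g.z := rfl
/-- The complement `T`. -/
def sec : T3 →* U := MonoidHom.mk' (fun t => ⟨0, 0, 0, 0, 0, 0, t.x, t.y, t.z⟩) fun _ _ => by ext <;> simp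
theorem sec_eq (t : T3) : sec t = ⟨0, 0, 0, 0, 0, 0, t.x, t.y, t.z⟩ := rfl

/-! ### Maps -/

/-- The torus (signs `s₁, s₂, s₃` on the simple roots `x, y, f`; used with `sᵢ * sᵢ = 1`). -/
def dt (s₁ s₂ s₃ : K3) (g : U) : U := ⟨s₃ * g.a, s₁ * s₃ * g.b, s₁ * s₂ * s₃ * g.c, s₃ * g.d, s₂ * s₃ * g.e, s₃ * g.f,
  s₁ * g.x, s₂ * g.y, s₁ * s₂ * g.z⟩
/-- Central automorphisms. -/
def kap (k : K3) (g : U) : U := ⟨g.a + k * g.f, g.b, g.c, g.d, g.e, g.f, g.x, g.y, g.z⟩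
/-- Automorphisms of `E₁` (`k = 0`: `Sp₆(3)`, `k = 2`: `Co₁`); `j1 k = kap (-k) ∘ j1 0 ∘ kap k`. -/
def j1 (k : K3) (g : U) : U := ⟨g.d - k * g.f, -g.b, -g.e, g.a + k * g.f, g.c, g.f, 0, g.z, -g.y⟩
/-- Automorphisms of `E₂`; `j2 k = kap (-k) ∘ j2 0 ∘ kap k`. -/
def j2 (k : K3) (g : U) : U := ⟨g.a - k * g.d + k * g.f, -g.c, g.b, g.f, -g.e, g.d, -g.z, 0, g.x⟩
/-- An automorphism of `E₃`. -/
def j3 (g : U) : U := ⟨g.a - 2 * g.c * g.z, g.b - g.c * g.y - g.e * g.z, -g.z, g.d - 2 * g.e * g.y, -g.y, 0,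
  g.x, g.e, g.c⟩

/-! ### Matrices on `A` -/

/-- Vectors. -/
abbrev V6 : Type := Fin 6 → K3
/-- Matrices. -/
abbrev M6 : Type := Matrix (Fin 6) (Fin 6) K3
/-- The linear group. -/
abbrev GL6 : Type := GL (Fin 6) K3

/-- The `A`-coordinates. -/
def vec (g : U) : V6 := ![g.a, g.b, g.c, g.d, g.e, g.f]
/-- The element of `A` with given coordinates. -/
def ofV (v : V6) : U := ⟨v 0, v 1, v 2, v 3, v 4, v 5, 0, 0, 0⟩
/-- A matrix as a map on `A`. -/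
def lin (m : GL6) (g : U) : U := ofV (m.1 *ᵥ vec g)

/-- The matrix of `t ∈ T` on `A`. -/
def tmM (t : T3) : M6 := !![1, 2 * t.x, 2 * t.z, t.x ^ 2, 2 * t.x * t.z, t.z ^ 2;
  0, 1, t.y, t.x, t.z + t.x * t.y, t.y * t.z; 0, 0, 1, 0, t.x, t.z; 0, 0, 0, 1, 2 * t.y, t.y ^ 2;
  0, 0, 0, 0, 1, t.y; 0, 0, 0, 0, 0, 1]
/-- The action of `T` on `A`. -/
def tm : T3 →* GL6 := MonoidHom.toHomUnits
  { toFun := tmM
    map_one' := by decide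
    map_mul' := fun s t => by
      ext i j
      fin_cases i <;> fin_cases j <;> simp [tmM, Matrix.mul_apply, Fin.sum_univ_succ] <;> ring }
theorem tm_val (t : T3) : (tm t).1 = tmM t := rfl
/-- An invertible matrix. -/
def gl (m n : M6) (h : m * n = 1) : GL6 := ⟨m, n, h, mul_eq_one_comm.1 h⟩
/-- The matrix of `j1 k`. -/
def J1M (k : K3) : M6 := !![0, 0, 0, 1, 0, -k; 0, -1, 0, 0, 0, 0; 0, 0, 0, 0, -1, 0; 1, 0, 0, 0, 0, k;
  0, 0, 1, 0, 0, 0; 0, 0, 0, 0, 0, 1]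
/-- The matrix of `j2 k`. -/
def J2M (k : K3) : M6 := !![1, 0, 0, -k, 0, k; 0, 0, -1, 0, 0, 0; 0, 1, 0, 0, 0, 0; 0, 0, 0, 0, 0, 1;
  0, 0, 0, 0, -1, 0; 0, 0, 0, 1, 0, 0]
/-- An element of order 4 of `2.M₁₂ = ⟨T, J1 2, J2 0⟩` centralizing `xr`. -/
def D4M : M6 := !![1, 0, 1, 0, 0, 1; 2, 0, 0, 2, 2, 2; 1, 0, 0, 1, 2, 2; 2, 2, 0, 0, 0, 2;
  0, 2, 0, 1, 2, 0; 0, 0, 2, 2, 1, 0]
/-- The matrix of `j1 k`. -/
def J1 (k : K3) : GL6 := gl (J1M k) !![0, 0, 0, 1, 0, -k; 0, -1, 0, 0, 0, 0; 0, 0, 0, 0, 1, 0; 1, 0, 0, 0, 0, k;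
  0, 0, -1, 0, 0, 0; 0, 0, 0, 0, 0, 1] (by revert k; decide)
/-- The matrix of `j2 k`. -/
def J2 (k : K3) : GL6 := gl (J2M k) !![1, 0, 0, -k, 0, k; 0, 0, 1, 0, 0, 0; 0, -1, 0, 0, 0, 0; 0, 0, 0, 0, 0, 1;
  0, 0, 0, 0, -1, 0; 0, 0, 0, 1, 0, 0] (by revert k; decide)
/-- See `D4M`. -/
def D4 : GL6 := gl D4M (-D4M) (by decide)
theorem J1_val (k : K3) : (J1 k).1 = J1M k := rfl
theorem J2_val (k : K3) : (J2 k).1 = J2M k := rfl
theorem D4_val : D4.1 = D4M := rfl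
/-- An automorphism of `E₄`. -/
def j4 (g : U) : U := lin D4 g * sec (π g)
/-- The image of `T`. -/
abbrev TG : Subgroup GL6 := tm.range
/-- No element of order 9. -/
def Ex3 (G : Subgroup GL6) : Prop := ∀ g ∈ G, g ^ 9 = 1 → g ^ 3 = 1

/-! ### Fusion systems on `U` -/

/-- Fusion systems on `U`. -/
abbrev FS : Type := FusionSystem (⊤ : Subgroup U)

/-- `f` induces an element of `Aut_F(E)`. -/
def Au (F : FS) (E : Subgroup U) (f : U → U) : Prop := Mor F E f ∧ ∀ g ∈ E, f g ∈ E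

/-- `E` is essential in the saturated system `F`. -/
structure Es (F : FS) (E : Subgroup U) : Prop where
  sat : Sat F 3
  ess : F.IsEssential 3 E

/-- A torus element lies in `F`. -/
def Tor (F : FS) (s₁ s₂ s₃ : K3) : Prop := Mor F ⊤ (dt s₁ s₂ s₃)

/-- `Aut_F(U) ≤ Inn(U) ⋅ torus`. -/
def Nm (F : FS) : Prop := ∀ f, Mor F ⊤ f → ∃ s : U, ∃ s₁ s₂ s₃ : K3, s₁ * s₁ = 1 ∧ s₂ * s₂ = 1 ∧ s₃ * s₃ = 1 ∧
  ∀ g, f g = s * dt s₁ s₂ s₃ g * s⁻¹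

/-- `Aut_F(E₁)` moves `A⟨z⟩`. -/
def Mv1 (F : FS) : Prop := ∃ f, Au F E1 f ∧ (f zz).y ≠ 0
/-- `Aut_F(E₂)` moves `A⟨z⟩`. -/
def Mv2 (F : FS) : Prop := ∃ f, Au F E2 f ∧ (f zz).x ≠ 0
/-- `Aut_F(E₃)` moves `B⟨z⟩`. -/
def Mv3 (F : FS) : Prop := ∃ f, Au F E3 f ∧ (f ee).y ≠ 0

/-- The standard systems: `(0, False)`: `Sp₆(3)`, `(0, True)`: `GSp₆(3)`, `(2, True)`: `Co₁`. -/
structure Std (F : FS) (k : K3) (μ : Prop) : Prop where
  sat : Sat F 3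
  nm : Nm F
  t1 : Tor F (-1) 1 1
  t2 : Tor F 1 (-1) 1
  t3 : Tor F 1 1 (-1) ↔ μ
  h1 : Mor F E1 (j1 k)
  h2 : Mor F E2 (j2 0)
  h3 : Mor F E3 j3

/-- `Aut_F(A)` as a matrix group. -/
def GA (F : FS) : Subgroup GL6 := sub (fun m => Mor F sA (lin m))
  ((mor_id F le_top).congr fun g hg => by
    obtain ⟨h1, h2, h3⟩ := hg
    simp only [lin, Units.val_one, one_mulVec]
    ext <;> simp [ofV, vec, h1, h2, h3])
  fun m n hm hn => (hn.comp hm fun _ _ => ⟨rfl, rfl, rfl⟩).congr fun g _ => by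
    have : ∀ v, vec (ofV v) = v := fun v => by ext i; fin_cases i <;> rfl
    simp only [lin, this, Units.val_mul, mulVec_mulVec]
theorem mem_GA {F : FS} {m : GL6} : m ∈ GA F ↔ Mor F sA (lin m) := Iff.rfl

/-- The subgroup generated by the elements of `Aut_F(A)` that extend to larger subgroups. -/
def HA (F : FS) : Subgroup GL6 :=
  closure {m | ∃ Q f, sA < Q ∧ Mor F Q f ∧ ∀ u ∈ sA, f u = lin m u}

/-- A group containing `U` and elements inducing the generating maps. -/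
structure Rz {G : Type*} [Group G] (ι : U →* G) (k : K3) : Prop where
  inj : Function.Injective ι
  t1 : ∃ g, ∀ u, ι (dt (-1) 1 1 u) = g * ι u * g⁻¹
  t2 : ∃ g, ∀ u, ι (dt 1 (-1) 1 u) = g * ι u * g⁻¹
  h1 : ∃ g, ∀ u ∈ E1, ι (j1 k u) = g * ι u * g⁻¹
  h2 : ∃ g, ∀ u ∈ E2, ι (j2 0 u) = g * ι u * g⁻¹
  h3 : ∃ g, ∀ u ∈ E3, ι (j3 u) = g * ι u * g⁻¹

/-- A two-dimensional section `P / ker w` and a one-dimensional section `L / ker χ` controlling `Out(E)`;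
`N = N_U(E) = E⟨r⟩`, `r` acts as a transvection fixing the line of `p`. -/
structure Sec (E N P L : Subgroup U) (w : U → K3 × K3) (χ : U → K3) (r p : U) : Prop where
  PE : P ≤ E
  LE : L ≤ E
  wadd : ∀ g ∈ P, ∀ h ∈ P, w (g * h) = w g + w h
  wsur : ∀ v, ∃ g ∈ P, w g = v
  χadd : ∀ g ∈ L, ∀ h ∈ L, χ (g * h) = χ g + χ h
  χsur : ∀ v, ∃ g ∈ L, χ g = v
  invP : ∀ f, HomOn E f → Set.InjOn f E → (∀ g ∈ E, f g ∈ E) → ∀ g ∈ P, f g ∈ P ∧ (w g = 0 → w (f g) = 0)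
  invL : ∀ f, HomOn E f → Set.InjOn f E → (∀ g ∈ E, f g ∈ E) → ∀ g ∈ L, f g ∈ L ∧ (χ g = 0 → χ (f g) = 0)
  ker : ∀ α : MulAut E, (orderOf α).Coprime 3 → (∀ g ∈ P, w (ext α g) = w g) → (∀ g ∈ L, χ (ext α g) = χ g) → α = 1
  nrm : normalizerIn ⊤ E = N
  cen : centralizerIn ⊤ E ≤ E
  rN : r ∈ N
  r3 : r ^ 3 = 1
  gen : ∀ s ∈ N, ∃ e ∈ E, ∃ n : ℕ, s = e * r ^ n
  rw' : ∀ g ∈ P, w (r * g * r⁻¹) = ((w g).1 + (w g).2, (w g).2)
  rχ : ∀ g ∈ L, χ (r * g * r⁻¹) = χ g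
  iw : ∀ s ∈ E, ∀ g ∈ P, w (s * g * s⁻¹) = w g
  iχ : ∀ s ∈ E, ∀ g ∈ L, χ (s * g * s⁻¹) = χ g
  pP : p ∈ P
  wp : w p = (1, 0)

/-- `H` is strongly 3-embedded in `G` or equal to `G` (or a `3'`-group). -/
structure Spe {Γ : Type*} [Group Γ] (G H : Subgroup Γ) : Prop where
  le : H ≤ G
  mem : ∀ x ∈ H, ∀ g ∈ G, x ≠ 1 → x ^ 3 = 1 → g * x * g⁻¹ ∈ H → g ∈ H

/-- The action of `f` on the two sections. -/
def Ac (P L : Subgroup U) (w : U → K3 × K3) (χ : U → K3) (f : U → U) (m : RV.M2 K3) (ε : K3) : Prop :=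
  (∀ g ∈ P, w (f g) = m.ap (w g)) ∧ ∀ g ∈ L, χ (f g) = ε * χ g

/-- section of `E₁` -/
def w1 (g : U) : K3 × K3 := (g.z, g.y)
/-- section of `E₂` -/
def w2 (g : U) : K3 × K3 := (g.z, g.x)
/-- section of `E₃` -/
def w3 (g : U) : K3 × K3 := (g.e, g.y)
/-- section of `E₄` -/
def w4 (g : U) : K3 × K3 := (g.c + g.d - g.e, g.f)

end Cfsg.Lib.CF
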