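import Cfsg.Agent.Lib.CF.NA1
import Cfsg.Agent.Lib.PGroup.AutGL
import Cfsg.Agent.Lib.Small.Basic

/-!
# S5227: `Aut_F(A)` has no strongly embedded subgroup, II: the order of `H`
-/

set_option autoImplicit false

namespace Cfsg.Lib.CF

open Subgroup Cfsg.FusionSystem Cfsg.Lib.Fusion Matrix
open scoped commutatorElement

variable {G H : Subgroup GL6}

theorem cube_gen' {A P Q : M6} {e : V6} (hP : A * P = P * A) (hQ : A * Q = Q * A)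
    (fx : ∀ v, P *ᵥ v = 0 → Q *ᵥ v = 0 → ∃ k : K3, v = k • e)
    (nil : ∀ R ∈ [P, Q], ∀ S ∈ [P, Q], ∀ T ∈ [P, Q], R * S * T = 0) (he : A *ᵥ e = e) : A ^ 3 = 1 := by
  obtain ⟨N, hN⟩ : ∃ N, N = A - 1 := ⟨_, rfl⟩
  have c : ∀ {R : M6}, A * R = R * A → ∀ v, R *ᵥ N *ᵥ v = N *ᵥ R *ᵥ v := fun h v => by
    rw [mulVec_mulVec, mulVec_mulVec, hN, mul_sub, sub_mul, h, mul_one, one_mul]
  have n1 : ∀ v, P *ᵥ v = 0 ∧ Q *ᵥ v = 0 → N *ᵥ v = 0 := fun v h => by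
    obtain ⟨k, rfl⟩ := fx v h.1 h.2
    rw [mulVec_smul, hN, sub_mulVec, he, one_mulVec, sub_self, smul_zero]
  have n2 : ∀ v, (P *ᵥ P *ᵥ v = 0 ∧ Q *ᵥ P *ᵥ v = 0) ∧ P *ᵥ Q *ᵥ v = 0 ∧ Q *ᵥ Q *ᵥ v = 0 →
      P *ᵥ N *ᵥ v = 0 ∧ Q *ᵥ N *ᵥ v = 0 := fun v h => ⟨by rw [c hP, n1 _ h.1], by rw [c hQ, n1 _ h.2]⟩
  have z : ∀ R ∈ [P, Q], ∀ S ∈ [P, Q], ∀ T ∈ [P, Q], ∀ v, R *ᵥ S *ᵥ T *ᵥ v = 0 := fun R a S b T c v => by
    rw [mulVec_mulVec, mulVec_mulVec, nil R a S b T c, zero_mulVec]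
  have p : P ∈ [P, Q] := by simp
  have q : Q ∈ [P, Q] := by simp
  have n3 : N * N * N = 0 := mat_ext fun v => by
    rw [← mulVec_mulVec, ← mulVec_mulVec, zero_mulVec]
    refine n1 _ (n2 _ ?_)
    rw [c hP v, c hQ v]
    exact ⟨n2 _ ⟨⟨z _ p _ p _ p v, z _ q _ p _ p v⟩, z _ p _ q _ p v, z _ q _ q _ p v⟩,
      n2 _ ⟨⟨z _ p _ p _ q v, z _ q _ p _ q v⟩, z _ p _ q _ q v, z _ q _ q _ q v⟩⟩
  have h3 : (3 : M6) = 0 := by decide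
  have : (A - 1) * (A - 1) * (A - 1) = A ^ 3 - 1 - 3 * (A ^ 2 - A) := by noncomm_ring
  rwa [hN, this, h3, zero_mul, sub_zero, sub_eq_zero] at n3

theorem cube_gen {A B P Q : M6} {e : V6} (hB : B * A = 1) (hP : A * P = P * A) (hQ : A * Q = Q * A)
    (fx : ∀ v, P *ᵥ v = 0 → Q *ᵥ v = 0 → ∃ k : K3, v = k • e) (e0 : e ≠ 0) (eP : P *ᵥ e = 0) (eQ : Q *ᵥ e = 0)
    (nil : ∀ R ∈ [P, Q], ∀ S ∈ [P, Q], ∀ T ∈ [P, Q], R * S * T = 0) : A ^ 3 = 1 ∨ A ^ 3 = -1 := by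
  obtain ⟨k, hk⟩ := fx (A *ᵥ e) (by rw [mulVec_mulVec, ← hP, ← mulVec_mulVec, eP, mulVec_zero])
    (by rw [mulVec_mulVec, ← hQ, ← mulVec_mulVec, eQ, mulVec_zero])
  have : k = 0 ∨ k = 1 ∨ k = -1 := by clear hk; revert k; decide
  rcases this with rfl | rfl | rfl
  · exact absurd (by rw [← one_mulVec e, ← hB, ← mulVec_mulVec, hk, zero_smul, mulVec_zero]) e0
  · exact .inl (cube_gen' hP hQ fx nil (by rwa [one_smul] at hk))
  · have := cube_gen' (A := -A) (by rw [neg_mul, mul_neg, hP]) (by rw [neg_mul, mul_neg, hQ]) fx nil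
      (by rw [neg_mulVec, hk, neg_smul, one_smul, neg_neg])
    exact .inr (by rw [← this, Odd.neg_pow (by decide), neg_neg])

theorem comm_sub_one {A X : M6} (h : A * X = X * A) : A * (X - 1) = (X - 1) * A := by
  rw [mul_sub, sub_mul, h, mul_one, one_mul]

theorem cv_P1 : tmM ⟨1, 0, 0⟩ - 1 = !![0, 2, 0, 1, 0, 0; 0, 0, 0, 1, 0, 0; 0, 0, 0, 0, 1, 0; 0, 0, 0, 0, 0, 0;
    0, 0, 0, 0, 0, 0; 0, 0, 0, 0, 0, 0] := by decide
theorem cv_Q1 : tmM ⟨0, 0, 1⟩ - 1 = !![0, 0, 2, 0, 0, 1; 0, 0, 0, 0, 1, 0; 0, 0, 0, 0, 0, 1; 0, 0, 0, 0, 0, 0;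
    0, 0, 0, 0, 0, 0; 0, 0, 0, 0, 0, 0] := by decide
theorem cv_P2 : (tmM ⟨0, 1, 0⟩)ᵀ - 1 = !![0, 0, 0, 0, 0, 0; 0, 0, 0, 0, 0, 0; 0, 1, 0, 0, 0, 0; 0, 0, 0, 0, 0, 0;
    0, 0, 0, 2, 0, 0; 0, 0, 0, 1, 1, 0] := by decide
theorem cv_Q2 : (tmM ⟨0, 0, 1⟩)ᵀ - 1 = !![0, 0, 0, 0, 0, 0; 0, 0, 0, 0, 0, 0; 2, 0, 0, 0, 0, 0; 0, 0, 0, 0, 0, 0;
    0, 1, 0, 0, 0, 0; 1, 0, 1, 0, 0, 0] := by decide

theorem cv_1 {A B : M6} (hB : B * A = 1) (h1 : A * tmM ⟨1, 0, 0⟩ = tmM ⟨1, 0, 0⟩ * A)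
    (h2 : A * tmM ⟨0, 0, 1⟩ = tmM ⟨0, 0, 1⟩ * A) : A ^ 3 = 1 ∨ A ^ 3 = -1 := by
  have k1 := comm_sub_one h1
  have k2 := comm_sub_one h2
  rw [cv_P1] at k1
  rw [cv_Q1] at k2
  refine cube_gen (e := ![1, 0, 0, 0, 0, 0]) hB k1 k2 (fun v a b => ⟨v 0, ?_⟩) (by decide) (by decide) (by decide)
    (by simp only [List.forall_mem_cons, List.not_mem_nil, false_imp_iff, implies_true, and_true]; decide +kernel)
  have a0 := congrFun a 0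
  have a1 := congrFun a 1
  have a2 := congrFun a 2
  have b0 := congrFun b 0
  have b2 := congrFun b 2
  have t : (2 : K3) ≠ 0 := by decide
  simp [mulVec, dotProduct, Fin.sum_univ_succ] at a0 a1 a2 b0 b2
  simp [a1, b2, t] at a0 b0
  ext i; fin_cases i <;> simp [a0, a1, a2, b0, b2]

theorem cv_2 {A B : M6} (hB : B * A = 1) (h1 : A * (tmM ⟨0, 1, 0⟩)ᵀ = (tmM ⟨0, 1, 0⟩)ᵀ * A)
    (h2 : A * (tmM ⟨0, 0, 1⟩)ᵀ = (tmM ⟨0, 0, 1⟩)ᵀ * A) : A ^ 3 = 1 ∨ A ^ 3 = -1 := by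
  have k1 := comm_sub_one h1
  have k2 := comm_sub_one h2
  rw [cv_P2] at k1
  rw [cv_Q2] at k2
  refine cube_gen (e := ![0, 0, 0, 0, 0, 1]) hB k1 k2 (fun v a b => ⟨v 5, ?_⟩) (by decide) (by decide) (by decide)
    (by simp only [List.forall_mem_cons, List.not_mem_nil, false_imp_iff, implies_true, and_true]; decide +kernel)
  have a2 := congrFun a 2
  have a4 := congrFun a 4
  have a5 := congrFun a 5
  have b2 := congrFun b 2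
  have b5 := congrFun b 5
  have t : (2 : K3) ≠ 0 := by decide
  simp [mulVec, dotProduct, Fin.sum_univ_succ, t] at a2 a4 a5 b2 b5
  simp [a4, b2] at a5 b5
  ext i; fin_cases i <;> simp [a2, a4, a5, b2, b5]

/-- `m` preserves the fixed space `⟨e₀⟩` of `V₁` (columns), `m e₀ = ε e₀`, `ε = ±1`.  `N = ε m - 1` commutes with
`X = tmM ⟨1,0,0⟩`, `Z = tmM ⟨0,0,1⟩` and kills `e₀`.  Let `W₁ = ⟨e₀⟩ = {v | X v = v ∧ Z v = v}`,
`W₂ = ⟨e₀,e₁,e₂⟩ = {v | (X-1) v, (Z-1) v ∈ W₁}`, and `(X-1) v, (Z-1) v ∈ W₂` for all `v`.  Then `N W₂ ≤ W₁`, `N v ∈ W₂`,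
so `N³ = 0` and `(ε m)³ = 1` (characteristic 3). -/
theorem cent_V1 {m : GL6} (h1 : Commute m (tm ⟨1, 0, 0⟩)) (h2 : Commute m (tm ⟨0, 0, 1⟩)) : m ^ 3 = 1 ∨ m ^ 3 = -1 :=
  (cv_1 m.inv_mul (congrArg Units.val h1) (congrArg Units.val h2)).imp (fun e => Units.ext e) fun e => Units.ext e
/-- The same with row vectors: the rows fixed by `Y = tmM ⟨0,1,0⟩`, `Z` are `⟨e₅⟩`; `W₂ = ⟨e₂,e₄,e₅⟩`. -/
theorem cent_V2 {m : GL6} (h1 : Commute m (tm ⟨0, 1, 0⟩)) (h2 : Commute m (tm ⟨0, 0, 1⟩)) : m ^ 3 = 1 ∨ m ^ 3 = -1 := by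
  have t : ∀ {X : GL6}, Commute m X → m.1ᵀ * X.1ᵀ = X.1ᵀ * m.1ᵀ := fun h => by
    rw [← transpose_mul, ← transpose_mul, ← Units.val_mul, ← Units.val_mul, h.eq]
  refine (cv_2 (A := m.1ᵀ) (B := m⁻¹.1ᵀ) (by rw [← transpose_mul, m.mul_inv, transpose_one]) (t h1) (t h2)).imp
    (fun e => Units.ext (transpose_injective ?_)) fun e => Units.ext (transpose_injective ?_)
  · rw [Units.val_pow_eq_pow_val, transpose_pow, e]; exact transpose_one.symm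
  · rw [Units.val_pow_eq_pow_val, transpose_pow, e, Units.val_neg, transpose_neg, Units.val_one, transpose_one]

/-- `V ≤ T` of order 9, elementary abelian, `C_T(V) = V`, `H ≤ N(V)`.  `C = H ⊓ C(V)` has index dividing
`|Aut V| ∣ |GL₂(3)| = 48` (`relIndex_centralizer_dvd_card_mulAut`, `PGroup.exists_aut_hom_GL`, `Matrix.card_GL_field`).
Every `m ∈ C` has `m³ = ±1`.  `|C| ∣ 18`: no prime `q ≥ 5` divides `|C|` (Cauchy, `m⁶ = 1`); a Sylow 2-subgroup of `C` lies in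
`{±1}` (`m = m³ ^ ±..`: an element of 2-power order with `m³ = ±1` is `±1`); a Sylow 3-subgroup `Q` of `C` is `H`-conjugate into
`T` (`exists_conj_local`, `T` is Sylow in `H`), the conjugate lies in `C` (normal in `H`), so in `C_T(V) = V`. -/
theorem card_dvd_of (hT : TG ≤ H) (hs : ¬ 3 ∣ TG.relIndex H) {V : Subgroup T3} (hV : Nat.card V = 9)
    (hc : ∀ t : T3, t ∈ V ↔ ∀ s ∈ V, s * t = t * s) (hn : H ≤ normalizer (V.map tm : Set GL6))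
    (h3 : ∀ m : GL6, (∀ s ∈ V, Commute m (tm s)) → m ^ 3 = 1 ∨ m ^ 3 = -1) : Nat.card H ∣ 864 := by
  obtain ⟨W, hW⟩ : ∃ W, W = V.map tm := ⟨_, rfl⟩
  rw [← hW] at hn
  have cW : Nat.card W = 3 ^ 2 := by rw [hW, card_map_of_injective tm_injective, hV]; rfl
  have cm : ∀ x ∈ W, ∀ y ∈ W, x * y = y * x := by
    subst hW
    rintro _ ⟨x, hx, rfl⟩ _ ⟨y, hy, rfl⟩
    rw [← map_mul, ← map_mul, (hc y).1 hy x hx]
  obtain ⟨f, hf⟩ := PGroup.exists_aut_hom_GL (V := W) (p := 3) (n := 2) (fun x y => Subtype.ext (cm _ x.2 _ y.2))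
    (fun ⟨x, hx⟩ => Subtype.ext (by
      obtain ⟨t, -, rfl⟩ := hW ▸ hx
      exact tm_cube t)) cW.le
  have i1 : (centralizer (W : Set GL6)).relIndex H ∣ 48 := by
    rw [← relIndex_subgroupOf hn]
    refine (relIndex_dvd_index_of_normal _ _).trans ((Small.relIndex_centralizer_dvd_card_mulAut W).trans
      ((card_dvd_of_injective f hf).trans ?_))
    rw [card_GL_field, ZMod.card]; decide
  obtain ⟨C, hC⟩ : ∃ C, C = centralizer (W : Set GL6) ⊓ H := ⟨_, rfl⟩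
  have WC : W ≤ C := hC ▸ le_inf (fun x hx y hy => cm y hy x hx) (hW ▸ (map_le_range tm V).trans hT)
  have k3 : ∀ m ∈ C, m ^ 3 = 1 → m ∈ W := fun m hm e => by
    rw [hC] at hm
    obtain ⟨g, hg, k⟩ := Transfer.exists_conj_le_of_not_dvd_relIndex' hs (pg_zpowers e) (zpowers_le.2 hm.2)
    obtain ⟨t, ht⟩ := Transfer.conj_le_iff.1 k m (mem_zpowers m)
    refine (mem_normalizer_iff.1 (hn hg) m).2 (ht ▸ hW ▸ ⟨t, (hc t).2 fun s hs => tm_injective ?_, rfl⟩)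
    have := hm.1 _ ((mem_normalizer_iff.1 (hn (H.inv_mem hg)) (tm s)).1 (hW ▸ ⟨s, hs, rfl⟩))
    rw [map_mul, map_mul, ht]
    calc tm s * (g * m * g⁻¹) = g * (g⁻¹ * tm s * g⁻¹⁻¹ * m) * g⁻¹ := by group
      _ = g * m * g⁻¹ * tm s := by rw [this]; group
  have k : ∀ m ∈ C, m ∈ W ∨ -m ∈ W := fun m hm => by
    refine (h3 m fun s hs => ?_).imp (k3 m hm) fun e => ?_
    · exact ((hC ▸ hm).1 (tm s) (hW ▸ mem_map_of_mem tm hs)).symm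
    · have e4 : m ^ 4 = -m := by rw [pow_succ, e, neg_one_mul]
      exact e4 ▸ k3 _ (pow_mem hm 4) (by rw [e4, Odd.neg_pow (by decide), e, neg_neg])
  have i2 : W.relIndex C ∣ 2 := by
    by_cases a : C ≤ W
    · rw [relIndex_eq_one.2 a]; exact one_dvd _
    obtain ⟨m, hm, hm'⟩ := SetLike.not_le_iff_exists.1 a
    refine index_dvd_two_iff.2 ⟨⟨m, hm⟩, fun b => (k b b.2).symm.imp_left fun e => ?_⟩
    simpa [mem_subgroupOf] using mul_mem e ((k m hm).resolve_left hm')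
  have e1 := (W.subgroupOf C).index_mul_card
  have e2 := (C.subgroupOf H).index_mul_card
  rw [Core.card_subgroupOf_of_le WC, cW] at e1
  rw [Core.card_subgroupOf_of_le (hC ▸ inf_le_right), ← e1, ← relIndex, hC, inf_relIndex_right, ← hC] at e2
  exact e2 ▸ mul_dvd_mul i1 (mul_dvd_mul_right i2 (3 ^ 2))

theorem SE.card_dvd (h : SE G H)
    (hn : H ≤ normalizer (V1.map tm : Set GL6) ∨ H ≤ normalizer (V2.map tm : Set GL6)) : Nat.card H ∣ 864 := by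
  have hs : ¬ 3 ∣ TG.relIndex H := fun k => h.syl (k.trans ⟨_, (relIndex_mul_relIndex _ _ _ h.TH h.spe.le).symm⟩)
  rcases hn with hn | hn
  · exact card_dvd_of h.TH hs card_V1 (by simp only [mem_V1]; decide) hn fun m k => cent_V1 (k _ rfl) (k _ rfl)
  · exact card_dvd_of h.TH hs card_V2 (by simp only [mem_V2]; decide) hn fun m k => cent_V2 (k _ rfl) (k _ rfl)

end Cfsg.Lib.CF
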